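import Cfsg.Agent.Lib.JThree.Pattern

/-! The test of the patterns, part 1. -/

set_option autoImplicit false
set_option maxRecDepth 100000
set_option Elab.async false

namespace CfsgLib.JThree

theorem pat10 : ((opts0.drop 10).take 1).all checkFrom = true := by decide +kernel

theorem pat11 : ((opts0.drop 11).take 1).all checkFrom = true := by decide +kernel

theorem pat12 : ((opts0.drop 12).take 1).all checkFrom = true := by decide +kernel

theorem pat13 : ((opts0.drop 13).take 1).all checkFrom = true := by decide +kernel

theorem pat14 : ((opts0.drop 14).take 1).all checkFrom = true := by decide +kernel

theorem pat15 : ((opts0.drop 15).take 1).all checkFrom = true := by decide +kernel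

theorem pat16 : ((opts0.drop 16).take 1).all checkFrom = true := by decide +kernel

theorem pat17 : ((opts0.drop 17).take 1).all checkFrom = true := by decide +kernel

theorem pat18 : ((opts0.drop 18).take 1).all checkFrom = true := by decide +kernel

theorem pat19 : ((opts0.drop 19).take 1).all checkFrom = true := by decide +kernel

end CfsgLib.JThree
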