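import Cfsg.Agent.Lib.JThree.Pattern

/-! The test of the patterns, part 2. -/

set_option autoImplicit false
set_option maxRecDepth 100000
set_option Elab.async false

namespace CfsgLib.JThree

theorem pat20 : ((opts0.drop 20).take 1).all checkFrom = true := by decide +kernel

theorem pat21 : ((opts0.drop 21).take 1).all checkFrom = true := by decide +kernel

theorem pat22 : ((opts0.drop 22).take 1).all checkFrom = true := by decide +kernel

theorem pat23 : ((opts0.drop 23).take 1).all checkFrom = true := by decide +kernel

theorem pat24 : ((opts0.drop 24).take 1).all checkFrom = true := by decide +kernel

theorem pat25 : ((opts0.drop 25).take 1).all checkFrom = true := by decide +kernel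

theorem pat26 : ((opts0.drop 26).take 1).all checkFrom = true := by decide +kernel

theorem pat27 : ((opts0.drop 27).take 1).all checkFrom = true := by decide +kernel

theorem pat28 : ((opts0.drop 28).take 1).all checkFrom = true := by decide +kernel

theorem pat29 : ((opts0.drop 29).take 1).all checkFrom = true := by decide +kernel

end CfsgLib.JThree
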