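import Cfsg.Agent.Lib.JThree.Pattern

/-! The test of the patterns, part 0. -/

set_option autoImplicit false
set_option maxRecDepth 100000
set_option Elab.async false

namespace CfsgLib.JThree

theorem pat0 : ((opts0.drop 0).take 1).all checkFrom = true := by decide +kernel

theorem pat1 : ((opts0.drop 1).take 1).all checkFrom = true := by decide +kernel

theorem pat2 : ((opts0.drop 2).take 1).all checkFrom = true := by decide +kernel

theorem pat3 : ((opts0.drop 3).take 1).all checkFrom = true := by decide +kernel

theorem pat4 : ((opts0.drop 4).take 1).all checkFrom = true := by decide +kernel

theorem pat5 : ((opts0.drop 5).take 1).all checkFrom = true := by decide +kernel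

theorem pat6 : ((opts0.drop 6).take 1).all checkFrom = true := by decide +kernel

theorem pat7 : ((opts0.drop 7).take 1).all checkFrom = true := by decide +kernel

theorem pat8 : ((opts0.drop 8).take 1).all checkFrom = true := by decide +kernel

theorem pat9 : ((opts0.drop 9).take 1).all checkFrom = true := by decide +kernel

end CfsgLib.JThree
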